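import Cfsg.Agent.H897.SK6.TauTwo
import Cfsg.Agent.H83.TwESix

/-!
# The involutions of `²E₆(q)`, `q` even, and the graph automorphism (S3010)
-/

set_option autoImplicit false
set_option linter.unusedSectionVars false

namespace Cfsg.Agent.H897.SK6

open Cfsg Cfsg.Lie Cfsg.Agent Cfsg.Agent.ChevalleyStructure
open Cfsg.Agent.H83.ChevInv Cfsg.Agent.H83.OrthRed Cfsg.Agent.H83.FoldInv Cfsg.Agent.ChevalleyStructure.Elts
open Cfsg.Agent.Nodes.RGDTwE6 (J foldData foldGrp hp isCartan)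
open Cfsg.Agent.ChevalleyStructure.TwE6Basic (sg mem_fix twisted_le_fix exists_frob)
open Cfsg.Agent.ChevalleyStructure.GraphSymm (symmE6)

universe u

section Tau

variable {K : Type u} [Field K] [Fintype K] {q : ℕ}

/-- `τ` is the restriction of the graph automorphism -/
theorem tau_sg (hq : IsPrimePow q) (hK : Fintype.card K = q ^ 2) (y : ↥(twistedE6 K q)) :
    ((tau hq hK y : ↥(twistedE6 K q)) : GL chevE6.Idx K) = sg (RingHom.id K) (y : GL chevE6.Idx K) := by
  obtain ⟨φ, hφ, hqq⟩ := exists_frob hq hK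
  have hφ' : (sq hq hK : K →+* K) = φ := RingHom.ext fun x => by
    show sq hq hK x = φ x
    rw [sq_apply, hφ]
  have key : ∀ z : ↥(twistedE6 K q), sg (RingHom.id K) ((tau hq hK z : ↥(twistedE6 K q)) : GL chevE6.Idx K) = z := by
    intro z
    have h1 : sg φ (z : GL chevE6.Idx K) = z := mem_fix.1 (twisted_le_fix φ hφ hqq z.2)
    rw [tau_coe, hφ']
    conv_rhs => rw [← h1]
    show MulAut.conj (symmE6.P K) (Matrix.GeneralLinearGroup.map (RingHom.id K)
      (Matrix.GeneralLinearGroup.map φ (z : GL chevE6.Idx K))) =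
        MulAut.conj (symmE6.P K) (Matrix.GeneralLinearGroup.map φ (z : GL chevE6.Idx K))
    rw [Matrix.GeneralLinearGroup.map_id]
    rfl
  have h2 := key (tau hq hK y)
  have h3 : tau hq hK (tau hq hK y) = y := by
    have := tau_mul hq hK
    exact congrArg (fun β : MulAut ↥(twistedE6 K q) => β y) this
  rw [h3] at h2
  exact h2.symm

/-- **(T1)** -/
theorem exists_tau (hq : IsPrimePow q) (hK : Fintype.card K = q ^ 2) :
    ∃ (H : Subgroup (MulAut ↥(twistedE6 K q))) (τ : MulAut ↥(twistedE6 K q)), τ * τ = 1 ∧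
      (∀ y : ↥(twistedE6 K q), ((τ y : ↥(twistedE6 K q)) : GL chevE6.Idx K) =
        sg (RingHom.id K) (y : GL chevE6.Idx K)) ∧
      (∀ k, MulAut.conj k ∈ H) ∧ (∀ δ ∈ H, ∃ k, δ ^ 3 = MulAut.conj k) ∧
      ∀ α : MulAut ↥(twistedE6 K q), α * α = 1 → α ∈ H ∨ α * τ ∈ H := by
  obtain ⟨H, h1, h2, h3⟩ := exists_H hq hK
  exact ⟨H, tau hq hK, tau_mul hq hK, tau_sg hq hK, h1, h2, h3⟩

end Tau

section Reps

variable {K : Type u} [Field K] [Fintype K] [CharP K 2] {q : ℕ}

theorem nr : chevE6.nroots = 72 := rfl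

theorem lt_of {L : List ℕ} (h : (L.all fun r => Nat.blt r 72) = true) : ∀ r ∈ L, r < chevE6.nroots := by
  intro r hr
  have := List.all_eq_true.1 h r hr
  rw [nr]
  simpa using this

/-- **(T2)** every involution is conjugate to a product over pairwise orthogonal simple roots -/
theorem exists_simple (hq : IsPrimePow q) (hK : Fintype.card K = q ^ 2) (y : ↥(twistedE6 K q)) (hy1 : y ≠ 1)
    (hy2 : y * y = 1) : ∃ J ∈ ([[1], [0, 5], [1, 0, 5]] : List (List (Fin 6))), ∃ z : ↥(twistedE6 K q),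
      ((z * y * z⁻¹ : ↥(twistedE6 K q)) : GL chevE6.Idx K) =
        PX hp.inList K (J.map fun j : Fin 6 => chevE6.simple j) := by
  obtain ⟨φ, hφ, hqq⟩ := exists_frob hq hK
  have FG := foldGrp hφ hqq
  rcases Cfsg.Agent.H83.TwESix.exists_rep hK y.2 (congrArg Subtype.val hy2) with h1 | ⟨R, hR, g, hg, e⟩
  · exact absurd (Subtype.ext h1) hy1
  have key : ∀ (J0 : List (Fin 6)) (L : List ℕ) (ω : List (Fin 4)), L = J0.map (fun j : Fin 6 => chevE6.simple j) →
      (∀ r ∈ L, r < chevE6.nroots) → L.map (bact chevE6 J ω) = R → ∃ z : ↥(twistedE6 K q),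
      ((z * y * z⁻¹ : ↥(twistedE6 K q)) : GL chevE6.Idx K) =
        PX hp.inList K (J0.map fun j : Fin 6 => chevE6.simple j) := by
    intro J0 L ω hL hlt hR'
    obtain ⟨k, hk, e2⟩ : EqvG hp.inList K (twistedE6 K q) L (L.map (bact chevE6 J ω)) :=
      EqvG.bword (hp := hp) FG ω hlt
    rw [hR'] at e2
    refine ⟨⟨k⁻¹ * g, mul_mem (inv_mem hk) hg⟩, ?_⟩
    show k⁻¹ * g * y * (k⁻¹ * g)⁻¹ = _
    rw [← hL]
    calc k⁻¹ * g * y * (k⁻¹ * g)⁻¹ = k⁻¹ * (g * y * g⁻¹) * k := by group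
      _ = _ := by rw [e, ← e2]; group
  simp only [Cfsg.Agent.H83.TwESix.reps, List.mem_cons, List.not_mem_nil, or_false] at hR
  rcases hR with rfl | rfl | rfl
  · exact ⟨[1], by simp, key [1] [46] [0, 1, 2, 1, 3, 2, 1] (by decide +kernel) (lt_of (by decide +kernel))
      (by decide +kernel)⟩
  · exact ⟨[0, 5], by simp, key [0, 5] [56, 36] [2, 3, 2, 1, 0, 2, 1, 2] (by decide +kernel)
      (lt_of (by decide +kernel)) (by decide +kernel)⟩
  · exact ⟨[1, 0, 5], by simp, key [1, 0, 5] [46, 56, 36] [2, 1, 3, 0, 2, 3, 1, 0, 2, 1, 2] (by decide +kernel)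
      (lt_of (by decide +kernel)) (by decide +kernel)⟩

end Reps

end Cfsg.Agent.H897.SK6
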