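import Cfsg.Agent.H897.SK6.Inv
import Cfsg.Agent.H282.SK.Out
import Cfsg.Agent.H297.SK.PB

/-!
# The graph-field automorphism of `²E₆(q)` and the data `H` of `PB` (S3010)
-/

set_option autoImplicit false
set_option linter.unusedSectionVars false

namespace Cfsg.Agent.H897.SK6

open Cfsg Cfsg.Lie Cfsg.Agent
open Cfsg.Agent.H967.CopMat Cfsg.Agent.H967.CopTw Cfsg.Agent.H967.CopD4 Cfsg.Agent.H967.FaTw

universe u

variable {K : Type u} [Field K] [Fintype K] {q : ℕ}

/-- the automorphism `x ↦ x ^ q` of the field of order `q²` -/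
theorem exists_sq (hq : IsPrimePow q) (hK : Fintype.card K = q ^ 2) :
    ∃ σ : K ≃+* K, (∀ x, σ x = x ^ q) ∧ σ ≠ 1 ∧ σ * σ = 1 := by
  classical
  obtain ⟨φ, hφ, hqq⟩ := Cfsg.Agent.ChevalleyStructure.TwE6Basic.exists_frob hq hK
  have hb : Function.Bijective φ := Finite.injective_iff_bijective.1 φ.injective
  refine ⟨RingEquiv.ofBijective φ hb, fun x => hφ x, fun h0 => ?_, ?_⟩
  · have h1 : ∀ x : K, x ^ q = x := by
      intro x
      rw [← hφ]
      exact congrArg (fun τ : K ≃+* K => τ x) h0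
    have hq1 : 1 < q := hq.one_lt
    have h2 : Fintype.card K ≤ q := by
      have h3 : (Finset.univ : Finset K) ⊆ (Polynomial.X ^ q - Polynomial.X : Polynomial K).roots.toFinset := by
        intro x _
        rw [Multiset.mem_toFinset, Polynomial.mem_roots (FiniteField.X_pow_card_sub_X_ne_zero K hq1)]
        simp [h1]
      have h4 := Finset.card_le_card h3
      have h5 := Multiset.toFinset_card_le (Polynomial.X ^ q - Polynomial.X : Polynomial K).roots
      have h6 := Polynomial.card_roots' (Polynomial.X ^ q - Polynomial.X : Polynomial K)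
      rw [FiniteField.X_pow_card_sub_X_natDegree_eq K hq1] at h6
      rw [Finset.card_univ] at h4
      omega
    rw [hK] at h2
    nlinarith
  · ext x
    show φ (φ x) = x
    rw [hφ, hφ]
    exact hqq x

/-- the automorphism `x ↦ x ^ q` -/
noncomputable def sq (hq : IsPrimePow q) (hK : Fintype.card K = q ^ 2) : K ≃+* K := (exists_sq hq hK).choose

theorem sq_apply (hq : IsPrimePow q) (hK : Fintype.card K = q ^ 2) (x : K) : sq hq hK x = x ^ q :=
  (exists_sq hq hK).choose_spec.1 x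

theorem sq_ne (hq : IsPrimePow q) (hK : Fintype.card K = q ^ 2) : sq hq hK ≠ 1 := (exists_sq hq hK).choose_spec.2.1

theorem sq_mul (hq : IsPrimePow q) (hK : Fintype.card K = q ^ 2) : sq hq hK * sq hq hK = 1 :=
  (exists_sq hq hK).choose_spec.2.2

/-- the automorphism `τ` of `²E₆(q)` -/
noncomputable def tau (hq : IsPrimePow q) (hK : Fintype.card K = q ^ 2) : MulAut ↥(twistedE6 K q) :=
  fieldAut (stab_e6 q) (sq hq hK)

theorem tau_mul (hq : IsPrimePow q) (hK : Fintype.card K = q ^ 2) : tau hq hK * tau hq hK = 1 := by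
  rw [tau, ← map_mul, sq_mul, map_one]

theorem tau_coe (hq : IsPrimePow q) (hK : Fintype.card K = q ^ 2) (g : ↥(twistedE6 K q)) :
    ((tau hq hK g : ↥(twistedE6 K q)) : GL chevE6.Idx K) =
      Matrix.GeneralLinearGroup.map (sq hq hK : K →+* K) (g : GL chevE6.Idx K) := rfl

/-- **The data of `PB`.** -/
theorem exists_H (hq : IsPrimePow q) (hK : Fintype.card K = q ^ 2) :
    ∃ H : Subgroup (MulAut ↥(twistedE6 K q)), (∀ k, MulAut.conj k ∈ H) ∧ (∀ δ ∈ H, ∃ k, δ ^ 3 = MulAut.conj k) ∧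
      ∀ α : MulAut ↥(twistedE6 K q), α * α = 1 → α ∈ H ∨ α * tau hq hK ∈ H := by
  obtain ⟨p, f, hp, hc, hf, rfl, hK'⟩ := H565.CopTw.exists_params hq hK (by norm_num)
  have : Fact p.Prime := ⟨hp⟩
  have hfin : Finite (Cfsg.Out ↥(Cfsg.Lie.twistedE6 K (p ^ f))) := H282.SK.finite_out
  have hout := S2130.result (K := K) p f hK' hf
  let j : (K ≃+* K) →* Cfsg.Out ↥(Cfsg.Lie.twistedE6 K (p ^ f)) :=
    (QuotientGroup.mk' (Cfsg.Inn _)).comp (fieldAut (stab_e6 (p ^ f)))
  have hj : Function.Injective j := by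
    rw [injective_iff_map_eq_one]
    intro σ hσ
    by_contra h1
    exact not_inner_e6 hq hK σ h1 ((QuotientGroup.eq_one_iff _).1 hσ)
  have hcy : IsCyclic (K ≃+* K) := H933.SubTwist.isCyclic_ringAut (show 1 ≤ 2 * f by omega) hK'
  have hcard : Nat.card (K ≃+* K) = 2 * f := Lib.FieldAutCard.card_ringAut (by omega) hK'
  have hcard' : Nat.card j.range = 2 * f := by
    rw [← hcard]
    exact Nat.card_congr (MonoidHom.ofInjective hj).toEquiv.symm
  have h2 : j.range.index = Nat.gcd 3 (p ^ f + 1) := by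
    have h1 := j.range.card_mul_index
    rw [hcard', hout] at h1
    apply Nat.eq_of_mul_eq_mul_left (show 0 < 2 * f by omega)
    rw [h1]
    ring
  have h3 : j.range.index = 1 ∨ j.range.index = 3 := by
    rw [h2]
    exact (Nat.dvd_prime Nat.prime_three).1 (Nat.gcd_dvd_left _ _)
  obtain ⟨D, hD, hD'⟩ := exists_D (isCyclic_of_surjective _ j.rangeRestrict_surjective) h3 (t := j (sq hq hK))
    ⟨_, rfl⟩ (by rw [← map_mul, sq_mul, map_one]) (fun h0 => sq_ne hq hK (hj (by rw [h0, map_one])))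
  refine ⟨D.comap (QuotientGroup.mk' (Cfsg.Inn _)), fun k => ?_, fun δ hδ => ?_, fun α hα => ?_⟩
  · rw [Subgroup.mem_comap]
    have h4 : QuotientGroup.mk' (Cfsg.Inn _) (MulAut.conj k) = 1 := (QuotientGroup.eq_one_iff _).2 ⟨k, rfl⟩
    rw [h4]
    exact one_mem _
  · have h4 := hD _ (Subgroup.mem_comap.1 hδ)
    rw [← map_pow] at h4
    obtain ⟨k, hk⟩ := (QuotientGroup.eq_one_iff _).1 h4
    exact ⟨k, hk.symm⟩
  · have h4 := hD' (QuotientGroup.mk' (Cfsg.Inn _) α) (by rw [← map_mul, hα, map_one])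
    rcases h4 with h4 | h4
    · exact Or.inl (Subgroup.mem_comap.2 h4)
    · right
      rw [Subgroup.mem_comap, map_mul]
      exact h4

/-- **`PB` for `²E₆(q)` from the local hypotheses.** -/
theorem exists_PB (hq : IsPrimePow q) (hK : Fintype.card K = q ^ 2) {v x : ↥(twistedE6 K q)} (odd : Odd (orderOf x))
    (inv : v * x * v⁻¹ = x⁻¹) (gv : tau hq hK v = v) (gx : tau hq hK x = x)
    (hN : ∀ N : Subgroup ↥(twistedE6 K q), IsPGroup 2 N → N ≤ Subgroup.centralizer {v} ⊓ Subgroup.centralizer {x} →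
      (∀ k ∈ (Subgroup.centralizer {v} ⊓ Subgroup.centralizer {x} : Subgroup ↥(twistedE6 K q)), ∀ z ∈ N,
        k * z * k⁻¹ ∈ N) → N = ⊥)
    (hNg : ∀ N : Subgroup ↥(twistedE6 K q), IsPGroup 2 N →
      N ≤ Subgroup.centralizer {v} ⊓ Subgroup.centralizer {x} → (∀ z ∈ N, tau hq hK z = z) →
      (∀ k ∈ (Subgroup.centralizer {v} ⊓ Subgroup.centralizer {x} : Subgroup ↥(twistedE6 K q)), tau hq hK k = k →
        ∀ z ∈ N, k * z * k⁻¹ ∈ N) → N = ⊥) :
    ∃ H, H297.SK.PB v x (tau hq hK) H := by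
  obtain ⟨H, h1, h2, h3⟩ := exists_H hq hK
  exact ⟨H, odd, inv, tau_mul hq hK, gv, gx, hN, hNg, h1, h2, fun α hα _ => h3 α hα⟩

end Cfsg.Agent.H897.SK6
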